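import Cfsg.Agent.Lib.SymOvergroup.Basic

/-!
Subgroups of a symmetric group with quasisimple `F*` containing the even part of a pairing.

* `IsDT`: double transpositions; `exists_threeCycle_of_inter`
* `exists_threeCycle`: such a subgroup contains a three-cycle (degree at least 8)
-/

set_option autoImplicit false

namespace Cfsg.Agent.SymOvergroup

open Equiv Equiv.Perm
open Cfsg.Agent.AltAut

variable {α : Type*} [Fintype α] [DecidableEq α]

/-- A double transposition. -/
def IsDT (s : Perm α) : Prop :=
  s * s = 1 ∧ s.support.card = 4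

theorem IsDT.apply_apply {s : Perm α} (hs : IsDT s) (x : α) : s (s x) = x :=
  Equiv.congr_fun hs.1 x

theorem IsDT.conj {s : Perm α} (hs : IsDT s) (g : Perm α) : IsDT (g * s * g⁻¹) := by
  refine ⟨?_, ?_⟩
  · have : g * s * g⁻¹ * (g * s * g⁻¹) = g * (s * s) * g⁻¹ := by group
    rw [this, hs.1]; group
  · rw [Perm.card_support_conj]; exact hs.2

theorem IsDT.eq_swaps {s : Perm α} (hs : IsDT s) {a : α} (ha : a ∈ s.support) :
    ∃ b c d, a ≠ b ∧ a ≠ c ∧ a ≠ d ∧ b ≠ c ∧ b ≠ d ∧ c ≠ d ∧
      s.support = {a, b, c, d} ∧ s = swap a b * swap c d := by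
  have hab : s a ≠ a := Perm.mem_support.mp ha
  have hb : s a ∈ s.support := Perm.apply_mem_support.mpr ha
  obtain ⟨c, hc⟩ : ∃ c, c ∈ (s.support.erase a).erase (s a) := by
    refine Finset.card_pos.mp ?_
    rw [Finset.card_erase_of_mem (Finset.mem_erase.mpr ⟨hab, hb⟩), Finset.card_erase_of_mem ha, hs.2]
    norm_num
  simp only [Finset.mem_erase] at hc
  obtain ⟨hcb, hca, hcs⟩ := hc
  have hcd : s c ≠ c := Perm.mem_support.mp hcs
  have hda : s c ≠ a := fun h => hcb (by rw [← h, hs.apply_apply])
  have hdb : s c ≠ s a := fun h => hca (s.injective h)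
  have hsup : s.support = {a, s a, c, s c} := by
    symm
    refine Finset.eq_of_subset_of_card_le ?_ ?_
    · intro y hy
      simp only [Finset.mem_insert, Finset.mem_singleton] at hy
      rcases hy with rfl | rfl | rfl | rfl
      exacts [ha, hb, hcs, Perm.apply_mem_support.mpr hcs]
    · rw [hs.2, Finset.card_eq_four.mpr ⟨a, s a, c, s c, hab.symm, hca.symm, hda.symm, hcb.symm,
        hdb.symm, hcd.symm, rfl⟩]
  refine ⟨s a, c, s c, hab.symm, hca.symm, hda.symm, hcb.symm, hdb.symm, hcd.symm, hsup,
    Equiv.ext fun y => ?_⟩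
  rw [Perm.mul_apply]
  by_cases hy : y ∈ s.support
  · rw [hsup] at hy
    simp only [Finset.mem_insert, Finset.mem_singleton] at hy
    rcases hy with rfl | rfl | rfl | rfl
    · rw [swap_apply_of_ne_of_ne hca.symm hda.symm, swap_apply_left]
    · rw [swap_apply_of_ne_of_ne hcb.symm hdb.symm, swap_apply_right, hs.apply_apply]
    · rw [swap_apply_left, swap_apply_of_ne_of_ne hda hdb]
    · rw [swap_apply_right, swap_apply_of_ne_of_ne hca hcb, hs.apply_apply]
  · have hfix := Perm.notMem_support.mp hy
    rw [hsup] at hy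
    simp only [Finset.mem_insert, Finset.mem_singleton, not_or] at hy
    rw [swap_apply_of_ne_of_ne hy.2.2.1 hy.2.2.2, swap_apply_of_ne_of_ne hy.1 hy.2.1, hfix]

omit [Fintype α] in
theorem swap_mul_swap_comm {x y z w : α} (hxz : x ≠ z) (hxw : x ≠ w) (hyz : y ≠ z) (hyw : y ≠ w) :
    swap x y * swap z w = swap z w * swap x y := by
  rw [Equiv.mul_swap_eq_swap_mul, swap_apply_of_ne_of_ne hxz.symm hyz.symm,
    swap_apply_of_ne_of_ne hxw.symm hyw.symm]

/-- Two double transpositions moving exactly one common point generate a three-cycle. -/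
theorem exists_threeCycle_of_inter {H : Subgroup (Perm α)} {s t : Perm α} (hs : s ∈ H) (ht : t ∈ H)
    (hs' : IsDT s) (ht' : IsDT t) {a : α} (hi : s.support ∩ t.support = {a}) :
    ∃ y ∈ H, y.IsThreeCycle := by
  have ha : a ∈ s.support ∩ t.support := hi ▸ Finset.mem_singleton_self a
  rw [Finset.mem_inter] at ha
  obtain ⟨b, c, d, ab, ac, ad, bc, bd, cd, hS, hse⟩ := hs'.eq_swaps ha.1
  obtain ⟨e, f, g, ae, af, ag, ef, eg, fg, hT, hte⟩ := ht'.eq_swaps ha.2
  have hne : ∀ x y, x ∈ s.support → x ≠ a → y ∈ t.support → x ≠ y := by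
    rintro x y hx hxa hy rfl
    have h : x ∈ s.support ∩ t.support := Finset.mem_inter.mpr ⟨hx, hy⟩
    rw [hi, Finset.mem_singleton] at h
    exact hxa h
  have mb : b ∈ s.support := by rw [hS]; simp
  have mc : c ∈ s.support := by rw [hS]; simp
  have md : d ∈ s.support := by rw [hS]; simp
  have me : e ∈ t.support := by rw [hT]; simp
  have mf : f ∈ t.support := by rw [hT]; simp
  have mg : g ∈ t.support := by rw [hT]; simp
  set u := swap a b * swap a e with hu
  set w := swap c d * swap f g with hw
  have h1 : swap c d * swap a e = swap a e * swap c d :=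
    swap_mul_swap_comm ac.symm (hne c e mc ac.symm me) ad.symm (hne d e md ad.symm me)
  have hst : s * t = u * w := by
    calc s * t = swap a b * (swap c d * swap a e) * swap f g := by rw [hse, hte]; group
      _ = u * w := by rw [h1, hu, hw]; group
  have h2 : swap f g * swap a e = swap a e * swap f g := swap_mul_swap_comm af.symm ef.symm ag.symm eg.symm
  have h3 : swap f g * swap a b = swap a b * swap f g :=
    swap_mul_swap_comm af.symm (hne b f mb ab.symm mf).symm ag.symm (hne b g mb ab.symm mg).symm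
  have h4 : swap c d * swap a b = swap a b * swap c d := swap_mul_swap_comm ac.symm bc.symm ad.symm bd.symm
  have h5 : swap c d * swap f g = swap f g * swap c d :=
    swap_mul_swap_comm (hne c f mc ac.symm mf) (hne c g mc ac.symm mg) (hne d f md ad.symm mf)
      (hne d g md ad.symm mg)
  have huw : w * u = u * w := by
    have hc : Commute (swap c d) u := Commute.mul_right h4 h1
    have hf : Commute (swap f g) u := Commute.mul_right h3 h2
    exact Commute.mul_left hc hf
  have hww : w * w = 1 := by
    calc w * w = swap c d * (swap f g * swap c d) * swap f g := by rw [hw]; group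
      _ = (swap c d * swap c d) * (swap f g * swap f g) := by rw [← h5]; group
      _ = 1 := by simp
  have hu3 : u.IsThreeCycle := by
    have : u = tri a e b := rfl
    rw [this]
    exact isThreeCycle_tri ae ab (hne b e mb ab.symm me).symm
  refine ⟨s * t * (s * t), mul_mem (mul_mem hs ht) (mul_mem hs ht), ?_⟩
  have : s * t * (s * t) = u * u := by
    calc s * t * (s * t) = u * (w * u) * w := by rw [hst]; group
      _ = u * (u * w) * w := by rw [huw]
      _ = u * u * (w * w) := by group
      _ = u * u := by rw [hww, mul_one]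
  rw [this]
  exact hu3.isThreeCycle_sq

omit [Fintype α] [DecidableEq α] in
/-- Permutations moving every point at most to its partner commute. -/
theorem comm_of_pair {τ : α → α} {k l : Perm α} (hk : ∀ x, k x = x ∨ k x = τ x)
    (hl : ∀ x, l x = x ∨ l x = τ x) (hτ : ∀ x, τ (τ x) = x) : k * l = l * k := by
  have key : ∀ {k : Perm α}, (∀ x, k x = x ∨ k x = τ x) → ∀ x, k (τ x) = τ (k x) := by
    intro k hk x
    rcases hk x with h | h <;> rcases hk (τ x) with h' | h'
    · rw [h', h]
    · rw [hτ] at h'
      have : τ x = x := k.injective (h'.trans h.symm)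
      rw [this, h, this]
    · have : τ x = x := k.injective (h'.trans h.symm)
      rw [h, h', hτ, this]
    · rw [h', h]
  refine Equiv.ext fun x => ?_
  simp only [Perm.mul_apply]
  rcases hk x with h | h <;> rcases hl x with h' | h'
  · rw [h, h', h]
  · rw [h, h', key hk, h]
  · rw [h, h', h, key hl, h']
  · rw [h, h', key hk, key hl, h, h']

/-- A subgroup with quasisimple `F*` containing the even part of a pairing contains a three-cycle. -/
theorem exists_threeCycle {H K : Subgroup (Perm α)} (c : Core H K) (τ : Perm α) (hτ : ∀ x, τ (τ x) = x)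
    (hfix : ∀ x y, τ x = x → τ y = y → x = y) (hM : 8 ≤ τ.support.card)
    (hev : ∀ g : Perm α, Perm.sign g = 1 → (∀ x, g x = x ∨ g x = τ x) → g ∈ H) :
    ∃ y ∈ H, y.IsThreeCycle := by
  classical
  by_contra h3
  push Not at h3
  set M := τ.support with hMdef
  have hmem : ∀ {x}, x ∈ M ↔ τ x ≠ x := Perm.mem_support
  have hτM : ∀ {x}, τ x ∈ M ↔ x ∈ M := Perm.apply_mem_support
  let T : α → α → Finset α := fun x y => {x, τ x, y, τ y}
  let Rel : α → α → Prop := fun x y => x ∈ M ∧ y ∈ M ∧ y ≠ x ∧ y ≠ τ x
  let d : α → α → Perm α := fun x y => swap x (τ x) * swap y (τ y)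
  have hne4 : ∀ {x y}, Rel x y → x ≠ τ x ∧ x ≠ y ∧ x ≠ τ y ∧ τ x ≠ y ∧ τ x ≠ τ y ∧ y ≠ τ y := by
    intro x y ⟨hx, hy, h1, h2⟩
    exact ⟨(hmem.mp hx).symm, h1.symm, fun h => h2 (by rw [h, hτ]), h2.symm,
      fun h => h1 (τ.injective h).symm, (hmem.mp hy).symm⟩
  have hdsupp : ∀ {x y}, Rel x y → (d x y).support = T x y := by
    intro x y h
    obtain ⟨e1, e2, e3, e4, e5, e6⟩ := hne4 h
    ext z
    simp only [Perm.mem_support, d, T, Perm.mul_apply, Finset.mem_insert, Finset.mem_singleton]
    constructor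
    · intro hz
      by_contra hn
      simp only [not_or] at hn
      exact hz (by rw [swap_apply_of_ne_of_ne hn.2.2.1 hn.2.2.2, swap_apply_of_ne_of_ne hn.1 hn.2.1])
    · rintro (rfl | rfl | rfl | rfl)
      · rw [swap_apply_of_ne_of_ne e2 e3, swap_apply_left]; exact e1.symm
      · rw [swap_apply_of_ne_of_ne e4 e5, swap_apply_right]; exact e1
      · rw [swap_apply_left, swap_apply_of_ne_of_ne e3.symm e5.symm]; exact e6.symm
      · rw [swap_apply_right, swap_apply_of_ne_of_ne e2.symm e4.symm]; exact e6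
  have hdapp : ∀ {x y}, Rel x y → ∀ z, d x y z = z ∨ d x y z = τ z := by
    intro x y h z
    obtain ⟨e1, e2, e3, e4, e5, e6⟩ := hne4 h
    by_cases hz : z ∈ T x y
    · right
      simp only [T, Finset.mem_insert, Finset.mem_singleton] at hz
      simp only [d, Perm.mul_apply]
      rcases hz with rfl | rfl | rfl | rfl
      · rw [swap_apply_of_ne_of_ne e2 e3, swap_apply_left]
      · rw [swap_apply_of_ne_of_ne e4 e5, swap_apply_right, hτ]
      · rw [swap_apply_left, swap_apply_of_ne_of_ne e3.symm e5.symm]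
      · rw [swap_apply_right, swap_apply_of_ne_of_ne e2.symm e4.symm, hτ]
    · exact Or.inl (Perm.notMem_support.mp (by rw [hdsupp h]; exact hz))
  have hd : ∀ {x y}, Rel x y → d x y ∈ H ∧ IsDT (d x y) := by
    intro x y h
    obtain ⟨e1, e2, e3, e4, e5, e6⟩ := hne4 h
    refine ⟨hev _ ?_ (hdapp h), Equiv.ext fun z => ?_, ?_⟩
    · simp [d, Perm.sign_swap e1, Perm.sign_swap e6]
    · simp only [d, Perm.mul_apply, Perm.one_apply]
      have hc := Equiv.congr_fun (swap_mul_swap_comm e2 e3 e4 e5) (swap y (τ y) z)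
      simp only [Perm.mul_apply, swap_apply_self] at hc
      rw [← hc, swap_apply_self]
    · rw [hdsupp h]
      exact Finset.card_eq_four.mpr ⟨_, _, _, _, e1, e2, e3, e4, e5, e6, rfl⟩
  let 𝔅 : Finset α → Prop := fun S => ∃ s ∈ H, IsDT s ∧ s.support = S
  have hTB : ∀ {x y}, Rel x y → 𝔅 (T x y) := fun h => ⟨_, (hd h).1, (hd h).2, hdsupp h⟩
  have h4 : ∀ {S}, 𝔅 S → S.card = 4 := fun ⟨s, _, hs, he⟩ => he ▸ hs.2
  -- no two supports meet in exactly one point
  have hmeet : ∀ {S S'}, 𝔅 S → 𝔅 S' → ∀ {z}, S ∩ S' ≠ {z} := by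
    rintro S S' ⟨s, hs, hs', rfl⟩ ⟨t, ht, ht', rfl⟩ z hz
    obtain ⟨y, hy, hy3⟩ := exists_threeCycle_of_inter hs ht hs' ht' hz
    exact h3 y hy hy3
  have hmeetT : ∀ {S x w}, 𝔅 S → x ∈ M → w ∈ M → x ∈ S → τ x ∉ S → w ∉ S → τ w ∉ S → False := by
    intro S x w hS hx hw hxS hxS' hwS hwS'
    have hr : Rel x w := ⟨hx, hw, fun h => hwS (h ▸ hxS), fun h => hwS' (by rw [h, hτ]; exact hxS)⟩
    refine hmeet (z := x) hS (hTB hr) ?_
    ext z
    simp only [T, Finset.mem_inter, Finset.mem_insert, Finset.mem_singleton]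
    constructor
    · rintro ⟨hz, rfl | rfl | rfl | rfl⟩
      exacts [rfl, absurd hz hxS', absurd hz hwS, absurd hz hwS']
    · rintro rfl; exact ⟨hxS, Or.inl rfl⟩
  -- the shape of a support
  have hshape : ∀ {S}, 𝔅 S → S ⊆ M ∧ ((∀ x ∈ S, τ x ∈ S) ∨
      (M.card = 8 ∧ ∀ x ∈ M, x ∈ S ↔ τ x ∉ S)) := by
    intro S hS
    have hcard : (S.image τ).card = 4 := by rw [Finset.card_image_of_injective _ τ.injective, h4 hS]
    have hSM : S ⊆ M := by
      intro z hz
      by_contra hzM
      have hR : ∀ y ∈ S.erase z, y ∈ M := fun y hy => by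
        rw [Finset.mem_erase] at hy
        rw [hmem]
        exact fun h => hy.1 (hfix _ _ h (not_not.mp (fun hh => hzM (hmem.mpr hh))))
      have hRcard : (S.erase z).card = 3 := by rw [Finset.card_erase_of_mem hz, h4 hS]
      obtain ⟨x, hx, hx'⟩ : ∃ x ∈ S.erase z, τ x ∉ S.erase z := by
        by_contra hno
        push Not at hno
        obtain ⟨p, q, r, pq, pr, qr, hR3⟩ := Finset.card_eq_three.mp hRcard
        have hf : ∀ y ∈ S.erase z, τ y ≠ y := fun y hy => hmem.mp (hR y hy)
        rw [hR3] at hno hf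
        have hp := hno p (by simp)
        have hq := hno q (by simp)
        have hr := hno r (by simp)
        simp only [Finset.mem_insert, Finset.mem_singleton] at hp hq hr
        have fp := hf p (by simp)
        have fq := hf q (by simp)
        have fr := hf r (by simp)
        rcases hp with hp | hp | hp
        · exact fp hp
        · rcases hr with hr | hr | hr
          · exact qr (by rw [← hp, ← hr, hτ])
          · exact pr (by rw [← hτ p, hp, ← hr, hτ])
          · exact fr hr
        · rcases hq with hq | hq | hq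
          · exact qr (by rw [← hp, ← hq, hτ])
          · exact fq hq
          · exact pq (by rw [← hτ p, hp, ← hq, hτ])
      obtain ⟨w, hw, hw'⟩ : ∃ w ∈ M, w ∉ S.erase z ∪ (S.erase z).image τ := by
        by_contra hno
        push Not at hno
        have := Finset.card_le_card (show M ⊆ S.erase z ∪ (S.erase z).image τ from hno)
        have h2 := this.trans (Finset.card_union_le _ _)
        rw [Finset.card_image_of_injective _ τ.injective, hRcard] at h2
        omega
      simp only [Finset.mem_union, Finset.mem_image, not_or, not_exists, not_and] at hw'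
      have hzne : ∀ y ∈ M, y ≠ z := fun y hy h => hzM (h ▸ hy)
      refine hmeetT hS (hR x hx) hw (Finset.mem_erase.mp hx).2 (fun h => hx' ?_) (fun h => hw'.1 ?_)
        (fun h => hw'.2 (τ w) ?_ (hτ w))
      · exact Finset.mem_erase.mpr ⟨hzne _ (hτM.mpr (hR x hx)), h⟩
      · exact Finset.mem_erase.mpr ⟨hzne _ hw, h⟩
      · exact Finset.mem_erase.mpr ⟨hzne _ (hτM.mpr hw), h⟩
    refine ⟨hSM, ?_⟩
    by_cases hinv : ∀ x ∈ S, τ x ∈ S
    · exact Or.inl hinv
    · right
      push Not at hinv
      obtain ⟨x, hx, hx'⟩ := hinv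
      have hsub : M ⊆ S ∪ S.image τ := by
        intro w hw
        by_contra hn
        simp only [Finset.mem_union, Finset.mem_image, not_or, not_exists, not_and] at hn
        exact hmeetT hS (hSM hx) hw hx hx' hn.1 (fun h => hn.2 (τ w) h (hτ w))
      have h8 := Finset.card_le_card hsub
      have hui := Finset.card_union_add_card_inter S (S.image τ)
      rw [h4 hS, hcard] at hui
      refine ⟨by omega, fun w hw => ⟨fun hwS hwS' => ?_, fun hwS' => ?_⟩⟩
      · have : 0 < (S ∩ S.image τ).card := Finset.card_pos.mpr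
          ⟨w, Finset.mem_inter.mpr ⟨hwS, Finset.mem_image.mpr ⟨τ w, hwS', hτ w⟩⟩⟩
        omega
      · rcases Finset.mem_union.mp (hsub hw) with h | h
        · exact h
        · obtain ⟨v, hv, rfl⟩ := Finset.mem_image.mp h
          exact absurd (by rw [hτ]; exact hv) hwS'
  -- for each moved point there are two further pairs
  have hex : ∀ x ∈ M, ∀ a b : α, ∃ y, Rel x y ∧ y ≠ a ∧ y ≠ b := by
    intro x hx a b
    have hlt : ({x, τ x, a, b} : Finset α).card < M.card := lt_of_le_of_lt Finset.card_le_four (by omega)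
    obtain ⟨y, hy, hy'⟩ := Finset.exists_mem_notMem_of_card_lt_card hlt
    simp only [Finset.mem_insert, Finset.mem_singleton, not_or] at hy'
    exact ⟨y, ⟨hx, hy, hy'.1, hy'.2.1⟩, hy'.2.2.1, hy'.2.2.2⟩
  have hB_conj : ∀ {S}, 𝔅 S → ∀ {h}, h ∈ H → 𝔅 (S.map h.toEmbedding) := by
    rintro S ⟨s, hs, hs', rfl⟩ h hh
    exact ⟨h * s * h⁻¹, mul_mem (mul_mem hh hs) (inv_mem hh), hs'.conj h, Perm.support_conj⟩
  have hMH : ∀ h ∈ H, ∀ x, h x ∈ M ↔ x ∈ M := by
    have hone : ∀ h ∈ H, ∀ x ∈ M, h x ∈ M := by
      intro h hh x hx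
      obtain ⟨y, hy, -⟩ := hex x hx x x
      exact (hshape (hB_conj (hTB hy) hh)).1 (Finset.mem_map_of_mem _ (by simp [T]))
    exact fun h hh x => ⟨fun hx => by simpa using hone _ (inv_mem hh) _ hx, hone h hh x⟩
  -- a permutation fixing all supports moves points at most to their partners
  have hpair : ∀ h : Perm α, (∀ x, h x ∈ M ↔ x ∈ M) → (∀ x y, Rel x y → h x ∈ T x y) →
      ∀ x, h x = x ∨ h x = τ x := by
    intro h hhM hT x
    by_cases hx : x ∈ M
    · obtain ⟨y, hy, -⟩ := hex x hx x x
      obtain ⟨z, hz, hzy, hzy'⟩ := hex x hx y (τ y)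
      obtain ⟨-, -, -, -, -, -⟩ := hne4 hy
      have e1 := hT x y hy
      have e2 := hT x z hz
      simp only [T, Finset.mem_insert, Finset.mem_singleton] at e1 e2
      rcases e1 with e | e | e | e
      · exact Or.inl e
      · exact Or.inr e
      · rcases e2 with e' | e' | e' | e'
        · exact Or.inl e'
        · exact Or.inr e'
        · exact absurd (e'.symm.trans e) hzy
        · exact absurd (by rw [← hτ z, ← e', e]) hzy'
      · rcases e2 with e' | e' | e' | e'
        · exact Or.inl e'
        · exact Or.inr e'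
        · exact absurd (e'.symm.trans e) hzy'
        · exact absurd (τ.injective (e'.symm.trans e)) hzy
    · left
      exact hfix _ _ (not_not.mp fun h' => hx ((hhM x).mp (hmem.mpr h')))
        (not_not.mp fun h' => hx (hmem.mpr h'))
  by_cases hA : ∀ S, 𝔅 S → ∀ x ∈ S, τ x ∈ S
  · -- every support is a union of two pairs
    let R : Subgroup (Perm α) :=
      { carrier := {h | h ∈ H ∧ ∀ S, 𝔅 S → ∀ x, h x ∈ S ↔ x ∈ S}
        one_mem' := ⟨one_mem H, fun S _ x => by simp⟩
        mul_mem' := fun {a b} ha hb => ⟨mul_mem ha.1 hb.1, fun S hS x => by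
          rw [Perm.mul_apply, ha.2 S hS, hb.2 S hS]⟩
        inv_mem' := fun {a} ha => ⟨inv_mem ha.1, fun S hS x => by
          simpa using (ha.2 S hS (a⁻¹ x)).symm⟩ }
    have hRn : ∀ g ∈ H, ∀ r ∈ R, g * r * g⁻¹ ∈ R := by
      intro g hg r hr
      refine ⟨mul_mem (mul_mem hg hr.1) (inv_mem hg), fun S hS x => ?_⟩
      have := hr.2 _ (hB_conj hS (inv_mem hg)) (g⁻¹ x)
      have hsy : ∀ y, (Equiv.symm g⁻¹) y = g y := fun y => rfl
      simpa [Finset.mem_map_equiv, hsy] using this
    have hRpair : ∀ r ∈ R, ∀ x, r x = x ∨ r x = τ x := fun r hr =>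
      hpair r (hMH r hr.1) fun x y hxy => (hr.2 _ (hTB hxy) x).mpr (by simp [T])
    rcases c.dich R (fun r hr => hr.1) hRn with hKR | hKR
    · exact c.eq_bot_of_comm fun a ha b hb =>
        comm_of_pair (hRpair a (hKR ha)) (hRpair b (hKR hb)) hτ
    · refine c.eq_bot_of_comm fun a ha b hb => ?_
      have hKpair : ∀ k ∈ K, ∀ x, k x = x ∨ k x = τ x := by
        intro k hk
        refine hpair k (hMH k (c.le hk)) fun x y hxy => ?_
        have hdR : d x y ∈ R := ⟨(hd hxy).1, fun S hS z => by
          rcases hdapp hxy z with h | h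
          · rw [h]
          · rw [h]; exact ⟨fun hz => by simpa [hτ] using hA S hS _ hz, hA S hS z⟩⟩
        have hk' := Equiv.congr_fun (hKR _ hdR k hk) x
        simp only [Perm.mul_apply] at hk'
        rw [← hdsupp hxy, Perm.mem_support]
        intro h
        rw [h] at hk'
        have hx : x ∈ (d x y).support := by rw [hdsupp hxy]; simp [T]
        exact Perm.mem_support.mp hx (k.injective hk')
      exact comm_of_pair (hKpair a ha) (hKpair b hb) hτ
  · -- some support is a transversal
    push Not at hA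
    obtain ⟨S₀, hS₀, x₀, hx₀, hx₀'⟩ := hA
    obtain ⟨h8, htr⟩ : M.card = 8 ∧ ∀ x ∈ M, x ∈ S₀ ↔ τ x ∉ S₀ :=
      (hshape hS₀).2.resolve_left fun h => hx₀' (h x₀ hx₀)
    let R : Subgroup (Perm α) :=
      { carrier := {h | h ∈ H ∧ ∀ S, 𝔅 S →
          (∀ x ∈ M, h x ∈ S ↔ x ∈ S) ∨ ∀ x ∈ M, h x ∈ S ↔ x ∉ S}
        one_mem' := ⟨one_mem H, fun S _ => Or.inl fun x _ => by simp⟩
        mul_mem' := fun {a b} ha hb => ⟨mul_mem ha.1 hb.1, fun S hS => by
          have hbM := hMH b hb.1
          rcases ha.2 S hS with h | h <;> rcases hb.2 S hS with h' | h'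
          · exact Or.inl fun x hx => by rw [Perm.mul_apply, h _ ((hbM x).mpr hx), h' x hx]
          · exact Or.inr fun x hx => by rw [Perm.mul_apply, h _ ((hbM x).mpr hx), h' x hx]
          · exact Or.inr fun x hx => by rw [Perm.mul_apply, h _ ((hbM x).mpr hx), h' x hx]
          · exact Or.inl fun x hx => by rw [Perm.mul_apply, h _ ((hbM x).mpr hx), h' x hx, not_not]⟩
        inv_mem' := fun {a} ha => ⟨inv_mem ha.1, fun S hS => by
          have haM := hMH _ (inv_mem ha.1)
          rcases ha.2 S hS with h | h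
          · refine Or.inl fun x hx => ?_
            have := h _ ((haM x).mpr hx)
            simpa using this.symm
          · refine Or.inr fun x hx => ?_
            have := h _ ((haM x).mpr hx)
            simp only [Perm.coe_inv, Equiv.apply_symm_apply] at this ⊢
            tauto⟩ }
    have hRn : ∀ g ∈ H, ∀ r ∈ R, g * r * g⁻¹ ∈ R := by
      intro g hg r hr
      refine ⟨mul_mem (mul_mem hg hr.1) (inv_mem hg), fun S hS => ?_⟩
      have hgM := hMH _ (inv_mem hg)
      rcases hr.2 _ (hB_conj hS (inv_mem hg)) with h | h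
      · refine Or.inl fun x hx => ?_
        have := h _ ((hgM x).mpr hx)
        have hsy : ∀ y, (Equiv.symm g⁻¹) y = g y := fun y => rfl
        simpa [Finset.mem_map_equiv, hsy] using this
      · refine Or.inr fun x hx => ?_
        have := h _ ((hgM x).mpr hx)
        have hsy : ∀ y, (Equiv.symm g⁻¹) y = g y := fun y => rfl
        simpa [Finset.mem_map_equiv, hsy] using this
    have hsq : ∀ r ∈ R, r * r = 1 := by
      intro r hr
      have hrM := hMH r hr.1
      have hinv : ∀ S, 𝔅 S → ∀ x ∈ M, (r * r) x ∈ S ↔ x ∈ S := by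
        intro S hS x hx
        rcases hr.2 S hS with h | h
        · rw [Perm.mul_apply, h _ ((hrM x).mpr hx), h x hx]
        · rw [Perm.mul_apply, h _ ((hrM x).mpr hx), h x hx, not_not]
      have hp := hpair (r * r) (hMH _ (mul_mem hr.1 hr.1))
        (fun x y hxy => (hinv _ (hTB hxy) x hxy.1).mpr (by simp [T]))
      refine Equiv.ext fun x => ?_
      rcases hp x with h | h
      · exact h
      · by_cases hx : x ∈ M
        · have h' := hinv S₀ hS₀ x hx
          rw [h, htr x hx] at h'
          tauto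
        · exact h.trans (not_not.mp fun h' => hx (hmem.mpr h'))
    have hτR : τ ∈ R := by
      refine ⟨hev τ ?_ (fun x => Or.inr rfl), fun S hS => ?_⟩
      · have hord : orderOf τ = 2 := by
          refine orderOf_eq_prime ?_ ?_
          · rw [sq]; exact Equiv.ext hτ
          · intro h; rw [hMdef, h, Perm.support_one, Finset.card_empty] at h8; omega
        obtain ⟨m, hm⟩ := Perm.cycleType_prime_order (by rw [hord]; exact Nat.prime_two)
        rw [hord] at hm
        have hs := Perm.sum_cycleType τ
        rw [hm, Multiset.sum_replicate, smul_eq_mul, ← hMdef, h8] at hs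
        have hm3 : m = 3 := by omega
        rw [Perm.sign_of_cycleType, hm, hm3]
        decide
      · rcases (hshape hS).2 with h | h
        · exact Or.inl fun x _ => ⟨fun hx => by simpa [hτ] using h _ hx, h x⟩
        · exact Or.inr fun x hx => by rw [h.2 x hx, not_not]
    rcases c.dich R (fun r hr => hr.1) hRn with hKR | hKR
    · refine c.eq_bot_of_comm fun a ha b hb => ?_
      have h1 := hsq _ (mul_mem (hKR ha) (hKR hb))
      calc a * b = (a * b)⁻¹ := (inv_eq_of_mul_eq_one_right h1).symm
        _ = b⁻¹ * a⁻¹ := mul_inv_rev _ _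
        _ = b * a := by
          rw [inv_eq_of_mul_eq_one_right (hsq _ (hKR ha)), inv_eq_of_mul_eq_one_right (hsq _ (hKR hb))]
    · have hKτ : ∀ k ∈ K, ∀ x, k (τ x) = τ (k x) := fun k hk x => Equiv.congr_fun (hKR τ hτR k hk) x
      haveI := perm_isSolvable_of_card_le_four (β := {y // y ∈ S₀}) (by simp [h4 hS₀])
      let rep : α → α := fun y => if y ∈ S₀ then y else τ y
      have hrep : ∀ y ∈ M, rep y ∈ S₀ := by
        intro y hy
        simp only [rep]
        split_ifs with h
        · exact h
        · have := htr y hy; tauto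
      have hrepτ : ∀ y ∈ M, rep (τ y) = rep y := by
        intro y hy
        have := htr y hy
        simp only [rep, hτ]
        split_ifs with h h' h' <;> first | rfl | tauto
      have hrepk : ∀ k ∈ K, ∀ y ∈ M, rep (k (rep y)) = rep (k y) := by
        intro k hk y hy
        by_cases h : y ∈ S₀
        · rw [show rep y = y from if_pos h]
        · rw [show rep y = τ y from if_neg h, hKτ k hk, hrepτ _ ((hMH k (c.le hk) y).mpr hy)]
      have hSM := (hshape hS₀).1
      let act : ↥K → {y // y ∈ S₀} → {y // y ∈ S₀} := fun k s =>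
        ⟨rep ((k : Perm α) s), hrep _ ((hMH _ (c.le k.2) _).mpr (hSM s.2))⟩
      have hact : ∀ k l s, act k (act l s) = act (k * l) s := fun k l s =>
        Subtype.ext (hrepk k k.2 _ ((hMH _ (c.le l.2) _).mpr (hSM s.2)))
      have hact1 : ∀ s, act 1 s = s := fun s => Subtype.ext (if_pos s.2)
      let ψ : ↥K →* Perm {y // y ∈ S₀} :=
        { toFun := fun k => ⟨act k, act k⁻¹, fun s => by rw [hact, inv_mul_cancel, hact1],
            fun s => by rw [hact, mul_inv_cancel, hact1]⟩
          map_one' := Equiv.ext hact1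
          map_mul' := fun k l => Equiv.ext fun s => (hact k l s).symm }
      have hK0 : ∀ k ∈ K, ∀ s ∈ S₀, k s = s ∨ k s = τ s := by
        intro k hk s hs
        have h := congrArg Subtype.val (Equiv.congr_fun (eq_one_of_hom c.perfect ψ ⟨k, hk⟩) ⟨s, hs⟩)
        change rep (k s) = s at h
        by_cases hks : k s ∈ S₀
        · exact Or.inl ((if_pos hks).symm.trans h)
        · exact Or.inr (by rw [← hτ (k s)]; exact congrArg τ ((if_neg hks).symm.trans h))
      have hKpair : ∀ k ∈ K, ∀ x, k x = x ∨ k x = τ x := by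
        intro k hk x
        by_cases hx : x ∈ M
        · by_cases hxS : x ∈ S₀
          · exact hK0 k hk x hxS
          · rcases hK0 k hk (τ x) (by have := htr x hx; tauto) with h | h
            · rw [hKτ k hk] at h; exact Or.inl (τ.injective h)
            · rw [hKτ k hk] at h; exact Or.inr (τ.injective h)
        · exact Or.inl (hfix _ _ (not_not.mp fun h' => hx ((hMH k (c.le hk) x).mp (hmem.mpr h')))
            (not_not.mp fun h' => hx (hmem.mpr h')))
      exact c.eq_bot_of_comm fun a ha b hb => comm_of_pair (hKpair a ha) (hKpair b hb) hτ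

end Cfsg.Agent.SymOvergroup
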