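import Cfsg.Agent.Lib.AltAut.ThreeCycle
import Cfsg.Agent.Lib.Components.Quasisimple
import Cfsg.Agent.Lib.Symplectic.GFit
import Cfsg.Agent.S4337

/-!
Subgroups `H` of a symmetric group with quasisimple `F*(H)`.

* `eq_one_of_hom`: a perfect subgroup has trivial image in a solvable group
* `perfect_fix`: a perfect permutation group fixes pointwise an invariant set of at most 4 points
* `altOn B`, `altOn_le_of_tri`, `altOnEquiv`
* `Core`: what is used about `F*(H)`; `core_of_quasisimple`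
* `exists_block`: if `H` contains a three-cycle then `F*(H) = Alt(B)` and only `1` in `H` fixes `B` pointwise
* `exists_conj_mem_sylow`: a `p`-element of a subgroup normalised by a Sylow subgroup is conjugate into it
-/

set_option autoImplicit false

namespace Cfsg.Agent.SymOvergroup

open Equiv Equiv.Perm
open Cfsg.Agent.AltAut
open scoped commutatorElement

theorem eq_one_of_hom {G S : Type*} [Group G] [Group S] [Group.IsSolvable S] {K : Subgroup G}
    (hK : ⁅K, K⁆ = K) (ψ : ↥K →* S) (k : ↥K) : ψ k = 1 := by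
  have hp : ⁅ψ.range, ψ.range⁆ = ψ.range := by
    have htop : ⁅(⊤ : Subgroup ↥K), (⊤ : Subgroup ↥K)⁆ = ⊤ := by
      refine Subgroup.map_injective K.subtype_injective ?_
      rw [Subgroup.map_commutator, ← MonoidHom.range_eq_map, Subgroup.range_subtype, hK]
    rw [MonoidHom.range_eq_map, ← Subgroup.map_commutator, htop]
  obtain ⟨n, hn⟩ := (Group.isSolvable_def S).mp inferInstance
  have hle : ∀ m, ψ.range ≤ derivedSeries S m := by
    intro m
    induction m with
    | zero => exact le_top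
    | succ m ih => rw [← hp, derivedSeries_succ]; exact Subgroup.commutator_mono ih ih
  exact Subgroup.mem_bot.mp (hn ▸ hle n ⟨k, rfl⟩)

variable {α : Type*} [Fintype α] [DecidableEq α]

theorem perm_isSolvable_of_card_le_four {β : Type*} [Fintype β] (h : Fintype.card β ≤ 4) :
    Group.IsSolvable (Perm β) := by
  classical
  haveI := Cfsg.Agent.S4337.perm4_solvable
  obtain ⟨f⟩ := Function.Embedding.nonempty_of_card_le (α := β) (β := Fin 4) (by simpa using h)
  exact Group.isSolvable_of_isSolvable_injective (f := Perm.viaEmbeddingHom f) (Perm.viaEmbeddingHom_injective f)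

/-- A perfect permutation group fixes pointwise each invariant set of at most four points. -/
theorem perfect_fix {K : Subgroup (Perm α)} (hK : ⁅K, K⁆ = K) {B : Finset α} (hB : B.card ≤ 4)
    (hinv : ∀ k ∈ K, ∀ x ∈ B, k x ∈ B) {k : Perm α} (hk : k ∈ K) {x : α} (hx : x ∈ B) : k x = x := by
  haveI := perm_isSolvable_of_card_le_four (β := {y // y ∈ B}) (by simpa using hB)
  have hiff : ∀ k ∈ K, ∀ y, k y ∈ B ↔ y ∈ B := fun k hk y =>
    ⟨fun h => by simpa using hinv _ (inv_mem hk) _ h, hinv k hk y⟩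
  let ψ : ↥K →* Perm {y // y ∈ B} :=
    { toFun := fun k => (k : Perm α).subtypePerm (hiff k k.2)
      map_one' := Equiv.ext fun y => Subtype.ext rfl
      map_mul' := fun a b => Equiv.ext fun y => Subtype.ext rfl }
  have := Equiv.congr_fun (eq_one_of_hom hK ψ ⟨k, hk⟩) ⟨x, hx⟩
  simpa [ψ] using congrArg Subtype.val this

/-- The alternating group on `B`, inside the symmetric group. -/
def altOn (B : Finset α) : Subgroup (Perm α) :=
  (alternatingGroup {x // x ∈ B}).map Perm.ofSubtype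

theorem altOn_fix {B : Finset α} {g : Perm α} (hg : g ∈ altOn B) {x : α} (hx : x ∉ B) : g x = x := by
  obtain ⟨u, -, rfl⟩ := hg
  exact Perm.ofSubtype_apply_of_not_mem u hx

theorem altOn_mem {B : Finset α} {g : Perm α} (hg : g ∈ altOn B) {x : α} (hx : x ∈ B) : g x ∈ B := by
  obtain ⟨u, -, rfl⟩ := hg
  rw [Perm.ofSubtype_apply_of_mem u hx]
  exact Subtype.coe_prop _

theorem tri_mem_altOn {B : Finset α} {a b c : α} (ha : a ∈ B) (hb : b ∈ B) (hc : c ∈ B)
    (ab : a ≠ b) (ac : a ≠ c) (bc : b ≠ c) : tri a b c ∈ altOn B := by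
  refine ⟨tri ⟨a, ha⟩ ⟨b, hb⟩ ⟨c, hc⟩, (isThreeCycle_tri (by simpa using ab) (by simpa using ac)
    (by simpa using bc)).mem_alternatingGroup, ?_⟩
  rw [tri, tri, map_mul, Perm.ofSubtype_swap_eq, Perm.ofSubtype_swap_eq]

theorem altOn_le_of_tri {B : Finset α} {H : Subgroup (Perm α)}
    (h : ∀ a ∈ B, ∀ b ∈ B, ∀ c ∈ B, a ≠ b → a ≠ c → b ≠ c → tri a b c ∈ H) : altOn B ≤ H := by
  rw [altOn, ← closure_three_cycles_eq_alternating, MonoidHom.map_closure, Subgroup.closure_le]
  rintro _ ⟨u, hu, rfl⟩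
  obtain ⟨a, ha⟩ : ∃ a, u a ≠ a := by
    by_contra hno
    push Not at hno
    exact hu.ne_one (Equiv.ext hno)
  obtain ⟨⟨hb, hc⟩, -, he⟩ := eq_tri hu ha
  rw [he, tri, map_mul, Perm.ofSubtype_swap_eq, Perm.ofSubtype_swap_eq]
  exact h _ a.2 _ (u a).2 _ (u (u a)).2 (fun h => ha (Subtype.ext h).symm)
    (fun h => hc (Subtype.ext h).symm) (fun h => hb (Subtype.ext h).symm)

/-- `altOn B` is the alternating group of degree `|B|`. -/
noncomputable def altOnEquiv (B : Finset α) : ↥(altOn B) ≃* ↥(alternatingGroup (Fin B.card)) :=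
  ((alternatingGroup {x // x ∈ B}).equivMapOfInjective Perm.ofSubtype Perm.ofSubtype_injective).symm.trans
    (Equiv.altCongrHom B.equivFin)

/-- What is used about `F*(H)`, as a subgroup `K` of the symmetric group. -/
structure Core (H K : Subgroup (Perm α)) : Prop where
  le : K ≤ H
  normal : ∀ h ∈ H, ∀ k ∈ K, h * k * h⁻¹ ∈ K
  perfect : ⁅K, K⁆ = K
  ne_bot : K ≠ ⊥
  cent : ∀ h ∈ H, (∀ k ∈ K, k * h = h * k) → h ∈ K
  dich : ∀ M : Subgroup (Perm α), M ≤ H → (∀ h ∈ H, ∀ m ∈ M, h * m * h⁻¹ ∈ M) →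
    K ≤ M ∨ ∀ m ∈ M, ∀ k ∈ K, k * m = m * k
  qs : ∀ N : Subgroup (Perm α), N ≤ K → (∀ k ∈ K, ∀ m ∈ N, k * m * k⁻¹ ∈ N) →
    N = K ∨ ∀ m ∈ N, ∀ k ∈ K, k * m = m * k

theorem core_of_quasisimple (H : Subgroup (Perm α))
    (hF : Cfsg.IsQuasisimple ↥(Cfsg.generalizedFittingSubgroup ↥H)) :
    Core H ((Cfsg.generalizedFittingSubgroup ↥H).map H.subtype) := by
  set F := Cfsg.generalizedFittingSubgroup ↥H with hFdef
  haveI hN : F.Normal := Cfsg.Agent.Symplectic.generalizedFitting_normal ↥H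
  set K := F.map H.subtype with hKdef
  haveI := hF.1
  haveI := Cfsg.Agent.Components.IsQuasisimple.nontrivial hF
  have hperfF : ⁅F, F⁆ = F := by
    have h := Group.IsPerfect.commutator_eq_top (G := ↥F)
    rw [_root_.commutator_def] at h
    have h2 := congrArg (Subgroup.map F.subtype) h
    rwa [Subgroup.map_commutator, ← MonoidHom.range_eq_map, F.range_subtype] at h2
  have qsF : ∀ N : Subgroup ↥H, N ≤ F → (∀ k ∈ F, ∀ m ∈ N, k * m * k⁻¹ ∈ N) →
      N = F ∨ ∀ m ∈ N, ∀ k ∈ F, k * m = m * k := by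
    intro N hle hnor
    haveI : (N.subgroupOf F).Normal := ⟨fun m hm k => hnor k k.2 m hm⟩
    rcases Cfsg.Agent.Components.IsQuasisimple.normal_eq_top_or_le_center hF (N.subgroupOf F) with h | h
    · exact Or.inl (le_antisymm hle (Subgroup.subgroupOf_eq_top.mp h))
    · exact Or.inr fun m hm k hk =>
        congrArg Subtype.val (Subgroup.mem_center_iff.mp (h (show (⟨m, hle hm⟩ : ↥F) ∈ N.subgroupOf F from hm)) ⟨k, hk⟩)
  refine ⟨Subgroup.map_subtype_le _, ?_, ?_, ?_, ?_, ?_, ?_⟩
  · rintro h hh _ ⟨k, hk, rfl⟩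
    exact ⟨⟨h, hh⟩ * k * ⟨h, hh⟩⁻¹, hN.conj_mem k hk _, rfl⟩
  · rw [hKdef, ← Subgroup.map_commutator, hperfF]
  · intro h
    rw [hKdef, Subgroup.map_eq_bot_iff_of_injective _ H.subtype_injective] at h
    exact (Subgroup.nontrivial_iff_ne_bot F).mp inferInstance h
  · intro h hh hc
    refine ⟨⟨h, hh⟩, Cfsg.Agent.Symplectic.centralizer_generalizedFitting_le ↥H ?_, rfl⟩
    intro k hk
    exact Subtype.ext (hc _ ⟨k, hk, rfl⟩)
  · intro M hMH hM
    set M' := M.subgroupOf H with hM'
    haveI : M'.Normal := ⟨fun m hm g => hM g g.2 m hm⟩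
    rcases qsF (M' ⊓ F) inf_le_right
      (fun k _ m hm => (inferInstance : (M' ⊓ F).Normal).conj_mem m hm k) with h | h
    · left
      rintro _ ⟨k, hk, rfl⟩
      exact (h.ge hk).1
    · right
      have h0 : ⁅F, M'⁆ = ⊥ := by
        refine Cfsg.Agent.Components.commutator_eq_bot_of_perfect_of_le hperfF
          (le_inf (Subgroup.commutator_le_right _ _) (Subgroup.commutator_le_left _ _)) ?_
        rw [Subgroup.commutator_eq_bot_iff_le_centralizer]
        exact fun m hm k hk => h m hm k hk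
      rw [Subgroup.commutator_eq_bot_iff_le_centralizer] at h0
      rintro m hm _ ⟨k, hk, rfl⟩
      exact congrArg Subtype.val (h0 hk (⟨m, hMH hm⟩ : ↥H) hm).symm
  · intro N hNK hnor
    rcases qsF (N.subgroupOf H) (fun m hm => by
        obtain ⟨k, hk, he⟩ := hNK hm
        rwa [← Subtype.ext he])
      (fun k hk m hm => hnor _ ⟨k, hk, rfl⟩ m hm) with h | h
    · left
      rw [hKdef, ← h, Subgroup.map_subgroupOf_eq_of_le (hNK.trans (Subgroup.map_subtype_le _))]
    · right
      rintro m hm _ ⟨k, hk, rfl⟩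
      exact congrArg Subtype.val (h ⟨m, Subgroup.map_subtype_le _ (hNK hm)⟩ hm k hk)

namespace Core

variable {H K : Subgroup (Perm α)} (c : Core H K)
include c

theorem eq_bot_of_comm (h : ∀ a ∈ K, ∀ b ∈ K, a * b = b * a) : False := by
  refine c.ne_bot ?_
  rw [← c.perfect, Subgroup.commutator_eq_bot_iff_le_centralizer]
  exact fun a ha b hb => (h a ha b hb).symm

theorem threeCycle_not_comm {x : Perm α} (hx : x ∈ H) (h3 : x.IsThreeCycle) :
    ¬ ∀ k ∈ K, k * x = x * k := by
  intro hc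
  have hxK := c.cent x hx hc
  obtain ⟨a, ha⟩ : ∃ a, a ∈ x.support :=
    Finset.card_pos.mp (by rw [h3.card_support]; norm_num)
  refine Perm.mem_support.mp ha (perfect_fix c.perfect (B := x.support)
    (by rw [h3.card_support]; norm_num) ?_ hxK ha)
  intro k hk y hy
  rw [Perm.mem_support] at hy ⊢
  intro h
  have := Equiv.congr_fun (hc k hk) y
  simp only [Perm.mul_apply] at this
  exact hy (k.injective (this.trans h))

end Core

/-- With a three-cycle in `H`, `F*(H)` is an alternating group on a block `B`. -/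
theorem exists_block {H K : Subgroup (Perm α)} (c : Core H K) {x : Perm α} (hx : x ∈ H)
    (h3 : x.IsThreeCycle) :
    ∃ B : Finset α, K = altOn B ∧ (∀ h ∈ H, ∀ y ∈ B, h y ∈ B) ∧
      ∀ h ∈ H, (∀ y ∈ B, h y = y) → h = 1 := by
  classical
  obtain ⟨a₀, ha₀⟩ : ∃ a, x a ≠ a := by
    by_contra hno
    push Not at hno
    exact h3.ne_one (Equiv.ext hno)
  obtain ⟨⟨hb₀, hc₀⟩, hcc₀, hx₀⟩ := eq_tri h3 ha₀
  set 𝔅 : Finset (Finset α) := Finset.univ.filter fun B => 3 ≤ B.card ∧
    ∀ a ∈ B, ∀ b ∈ B, ∀ c ∈ B, a ≠ b → a ≠ c → b ≠ c → tri a b c ∈ H with h𝔅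
  have hne : 𝔅.Nonempty := by
    refine ⟨{a₀, x a₀, x (x a₀)}, Finset.mem_filter.mpr ⟨Finset.mem_univ _, ?_, ?_⟩⟩
    · rw [Finset.card_eq_three.mpr ⟨_, _, _, ha₀.symm, hc₀.symm, hb₀.symm, rfl⟩]
    · intro a ha b hb d hd ab ad bd
      have h1 : x = tri (x a₀) (x (x a₀)) a₀ := hx₀.trans (tri_rotate ha₀.symm hc₀.symm hb₀.symm)
      have h2 : x = tri (x (x a₀)) a₀ (x a₀) := h1.trans (tri_rotate hb₀.symm ha₀ hc₀)
      have e0 := tri_inv ha₀.symm hc₀.symm hb₀.symm
      have e1 := tri_inv hb₀.symm ha₀ hc₀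
      have e2 := tri_inv hc₀ hb₀ ha₀.symm
      have hi := inv_mem hx
      simp only [Finset.mem_insert, Finset.mem_singleton] at ha hb hd
      rcases ha with rfl | rfl | rfl <;> rcases hb with rfl | rfl | rfl <;>
        rcases hd with rfl | rfl | rfl <;> first
        | exact absurd rfl ab | exact absurd rfl ad | exact absurd rfl bd
        | (rw [← hx₀]; exact hx) | (rw [← h1]; exact hx) | (rw [← h2]; exact hx)
        | (rw [← e0, ← hx₀]; exact hi) | (rw [← e1, ← h1]; exact hi) | (rw [← e2, ← h2]; exact hi)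
  obtain ⟨B, hB, hmax⟩ := Finset.exists_max_image 𝔅 Finset.card hne
  obtain ⟨-, hcard, htri⟩ := Finset.mem_filter.mp hB
  -- `B` is closed under the three-cycles of `H`
  have hclosed : ∀ y : Perm α, y ∈ H → y.IsThreeCycle → ∀ a ∈ B, y a ∈ B := by
    intro y hy hy3 a ha
    by_contra hk
    have hay : y a ≠ a := fun h => hk (h.symm ▸ ha)
    obtain ⟨⟨hl, hla⟩, hlll, hye⟩ := eq_tri hy3 hay
    set k := y a with hkdef
    set l := y k with hldef
    let P : α → α → Prop := fun u v => tri u v k ∈ H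
    have hne' : ∀ {u : α}, u ∈ B → u ≠ k := fun hu h => hk (h ▸ hu)
    have hsymm : ∀ {u v}, u ∈ B → v ∈ B → u ≠ v → P u v → P v u := by
      intro u v hu hv huv h
      have h' : tri u v k ∈ H := h
      show tri v u k ∈ H
      have := inv_mem h'
      rw [tri_inv huv (hne' hu) (hne' hv), tri_rotate (hne' hv).symm (hne' hu).symm huv.symm] at this
      exact this
    have hstart : ∃ u ∈ B, ∃ v ∈ B, u ≠ v ∧ P u v := by
      by_cases hlB : l ∈ B
      · refine ⟨l, hlB, a, ha, hla, ?_⟩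
        show tri l a k ∈ H
        rw [tri_rotate hla hl hay.symm, ← hye]
        exact hy
      · obtain ⟨b, hb, d, hd, hba, hda, hbd⟩ : ∃ b ∈ B, ∃ d ∈ B, b ≠ a ∧ d ≠ a ∧ b ≠ d := by
          have : 1 < (B.erase a).card := by rw [Finset.card_erase_of_mem ha]; omega
          obtain ⟨b, hb, d, hd, hbd⟩ := Finset.one_lt_card.mp this
          exact ⟨b, (Finset.mem_erase.mp hb).2, d, (Finset.mem_erase.mp hd).2,
            (Finset.mem_erase.mp hb).1, (Finset.mem_erase.mp hd).1, hbd⟩
        have hfix : ∀ z ∈ B, z ≠ a → y z = z := fun z hz hza => by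
          rw [hye]
          exact tri_apply_ne hza (hne' hz) (fun h => hlB (h ▸ hz))
        refine ⟨b, hb, d, hd, hbd, ?_⟩
        show tri b d k ∈ H
        have h1 := mul_mem (mul_mem hy (htri a ha b hb d hd hba.symm hda.symm hbd)) (inv_mem hy)
        rw [tri_conj, hfix b hb hba, hfix d hd hda, ← hkdef,
          tri_rotate (hne' hb).symm (hne' hd).symm hbd] at h1
        exact h1
    have hmove : ∀ {u v w}, u ∈ B → v ∈ B → w ∈ B → u ≠ v → u ≠ w → v ≠ w → P u v → P v w := by
      intro u v w hu hv hw uv uw vw h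
      show tri v w k ∈ H
      have h1 := mul_mem (mul_mem (htri u hu v hv w hw uv uw vw) h) (inv_mem (htri u hu v hv w hw uv uw vw))
      rw [tri_conj, tri_apply_fst uv vw, tri_apply_snd,
        tri_apply_ne (hne' hu).symm (hne' hv).symm (hne' hw).symm] at h1
      exact h1
    obtain ⟨u, hu, v, hv, huv, hP⟩ := hstart
    have hfirst : ∀ w ∈ B, w ≠ u → P u w := by
      intro w hw hwu
      by_cases hwv : w = v
      · rw [hwv]; exact hP
      · exact hmove hv hu hw huv.symm (Ne.symm hwv) hwu.symm (hsymm hu hv huv hP)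
    have hall : ∀ s ∈ B, ∀ t ∈ B, s ≠ t → P s t := by
      intro s hs t ht hst
      by_cases hsu : s = u
      · subst hsu; exact hfirst t ht hst.symm
      · by_cases htu : t = u
        · subst htu; exact hsymm ht hs hst.symm (hfirst s hs hst)
        · exact hmove hu hs ht (Ne.symm hsu) (Ne.symm htu) hst (hfirst s hs hsu)
    have hins : insert k B ∈ 𝔅 := by
      refine Finset.mem_filter.mpr ⟨Finset.mem_univ _, ?_, ?_⟩
      · rw [Finset.card_insert_of_notMem hk]; omega
      · intro s hs t ht r hr st sr tr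
        rcases Finset.mem_insert.mp hs with rfl | hs <;> rcases Finset.mem_insert.mp ht with rfl | ht <;>
          rcases Finset.mem_insert.mp hr with rfl | hr
        all_goals first
          | exact absurd rfl st | exact absurd rfl sr | exact absurd rfl tr
          | exact htri s hs t ht r hr st sr tr
          | exact hall s hs t ht st
          | (rw [tri_rotate st sr tr]; exact hall t ht r hr tr)
          | (rw [tri_rotate st sr tr, tri_rotate tr st.symm sr.symm]; exact hall r hr s hs sr.symm)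
    have := hmax _ hins
    rw [Finset.card_insert_of_notMem hk] at this
    omega
  -- the subgroup generated by the three-cycles of `H`
  set M := Subgroup.closure {y : Perm α | y ∈ H ∧ y.IsThreeCycle} with hMdef
  have hMH : M ≤ H := (Subgroup.closure_le _).mpr fun y hy => hy.1
  have hMn : ∀ h ∈ H, ∀ m ∈ M, h * m * h⁻¹ ∈ M := by
    intro h hh m hm
    induction hm using Subgroup.closure_induction with
    | mem y hy =>
      refine Subgroup.subset_closure ⟨mul_mem (mul_mem hh hy.1) (inv_mem hh), ?_⟩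
      show (h * y * h⁻¹).cycleType = {3}
      rw [Perm.cycleType_conj]; exact hy.2
    | one => simp
    | mul a b _ _ ha hb => simpa [mul_assoc] using mul_mem ha hb
    | inv a _ ha => simpa [mul_assoc] using inv_mem ha
  have hMB : ∀ m ∈ M, ∀ a ∈ B, m a ∈ B ∧ m⁻¹ a ∈ B := by
    intro m hm
    induction hm using Subgroup.closure_induction with
    | mem y hy => exact fun a ha => ⟨hclosed y hy.1 hy.2 a ha, hclosed _ (inv_mem hy.1) hy.2.inv a ha⟩
    | one => simp
    | mul p q _ _ hp hq =>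
      exact fun a ha => ⟨(hp _ (hq a ha).1).1, by rw [mul_inv_rev]; exact (hq _ (hp a ha).2).2⟩
    | inv p _ hp => exact fun a ha => ⟨(hp a ha).2, by rw [inv_inv]; exact (hp a ha).1⟩
  have hKM : K ≤ M := by
    rcases c.dich M hMH hMn with h | h
    · exact h
    · exact absurd (h x (Subgroup.subset_closure ⟨hx, h3⟩)) (c.threeCycle_not_comm hx h3)
  have hKB : ∀ k ∈ K, ∀ a ∈ B, k a ∈ B := fun k hk a ha => (hMB k (hKM hk) a ha).1
  have hLH : altOn B ≤ H := altOn_le_of_tri htri
  have hLnc : ¬ ∀ l ∈ altOn B, ∀ k ∈ K, k * l = l * k := by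
    intro h
    obtain ⟨a, ha, b, hb, d, hd, hab, had, hbd⟩ := Finset.two_lt_card.mp (show 2 < B.card by omega)
    exact c.threeCycle_not_comm (htri a ha b hb d hd hab had hbd) (isThreeCycle_tri hab had hbd)
      (h _ (tri_mem_altOn ha hb hd hab had hbd))
  have h5 : 5 ≤ B.card := by
    by_contra hlt
    refine hLnc fun l hl k hk => Equiv.ext fun y => ?_
    simp only [Perm.mul_apply]
    by_cases hy : y ∈ B
    · rw [perfect_fix c.perfect (by omega) hKB hk (altOn_mem hl hy),
        perfect_fix c.perfect (by omega) hKB hk hy]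
    · have hky : k y ∉ B := fun h => hy (by simpa using hKB _ (inv_mem hk) _ h)
      rw [altOn_fix hl hy, altOn_fix hl hky]
  have hnorm : ∀ h ∈ H, (∀ a ∈ B, h a ∈ B) → ∀ l ∈ altOn B, h * l * h⁻¹ ∈ altOn B := by
    intro h _ hhB l hl
    have hle : altOn B ≤ (altOn B).comap (MulAut.conj h).toMonoidHom := by
      refine altOn_le_of_tri fun a ha b hb d hd ab ad bd => ?_
      show h * tri a b d * h⁻¹ ∈ altOn B
      rw [tri_conj]
      exact tri_mem_altOn (hhB a ha) (hhB b hb) (hhB d hd) (h.injective.ne ab) (h.injective.ne ad)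
        (h.injective.ne bd)
    exact hle hl
  haveI hsimple : IsSimpleGroup ↥(altOn B) :=
    haveI := alternatingGroup.isSimpleGroup (α := Fin B.card) (by simpa using h5)
    (altOnEquiv B).isSimpleGroup
  have hLK : altOn B ≤ K := by
    haveI : (K.subgroupOf (altOn B)).Normal := ⟨fun m hm l => c.normal l (hLH l.2) m hm⟩
    rcases IsSimpleGroup.eq_bot_or_eq_top_of_normal (K.subgroupOf (altOn B)) inferInstance with h | h
    · refine absurd (fun l hl k hk => ?_) hLnc
      have h1 : k * l * k⁻¹ * l⁻¹ ∈ altOn B :=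
        mul_mem (hnorm k (c.le hk) (hKB k hk) l hl) (inv_mem hl)
      have h2 : k * l * k⁻¹ * l⁻¹ ∈ K := by
        rw [mul_assoc k l, mul_assoc k]
        exact mul_mem hk (c.normal l (hLH hl) _ (inv_mem hk))
      have h3 : (⟨_, h1⟩ : ↥(altOn B)) ∈ K.subgroupOf (altOn B) := h2
      rw [h, Subgroup.mem_bot] at h3
      exact mul_inv_eq_iff_eq_mul.mp (mul_inv_eq_one.mp (congrArg Subtype.val h3))
    · exact Subgroup.subgroupOf_eq_top.mp h
  have hKeq : K = altOn B := by
    rcases c.qs _ hLK (fun k hk l hl => hnorm k (c.le hk) (hKB k hk) l hl) with h | h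
    · exact h.symm
    · exact absurd h hLnc
  have hHB : ∀ h ∈ H, ∀ a ∈ B, h a ∈ B := by
    intro h hh a ha
    by_contra hna
    obtain ⟨b, hb, d, hd, hba, hda, hbd⟩ : ∃ b ∈ B, ∃ d ∈ B, b ≠ a ∧ d ≠ a ∧ b ≠ d := by
      have : 1 < (B.erase a).card := by rw [Finset.card_erase_of_mem ha]; omega
      obtain ⟨b, hb, d, hd, hbd⟩ := Finset.one_lt_card.mp this
      exact ⟨b, (Finset.mem_erase.mp hb).2, d, (Finset.mem_erase.mp hd).2,
        (Finset.mem_erase.mp hb).1, (Finset.mem_erase.mp hd).1, hbd⟩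
    have hm := c.normal h hh _ (hLK (tri_mem_altOn ha hb hd hba.symm hda.symm hbd))
    rw [tri_conj, hKeq] at hm
    have := altOn_fix hm hna
    rw [tri_apply_fst (h.injective.ne hba.symm) (h.injective.ne hbd)] at this
    exact hba (h.injective this)
  refine ⟨B, hKeq, hHB, fun h hh hfix => ?_⟩
  have hcomm : ∀ k ∈ K, k * h = h * k := by
    intro k hk
    refine Equiv.ext fun y => ?_
    simp only [Perm.mul_apply]
    by_cases hy : y ∈ B
    · rw [hfix y hy, hfix (k y) (hKB k hk y hy)]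
    · have hhy : h y ∉ B := fun hm => hy (by
        have h1 := hfix _ hm
        rw [h.injective h1] at hm; exact hm)
      rw [altOn_fix (hKeq.le hk) hy, altOn_fix (hKeq.le hk) hhy]
  have hmem := c.cent h hh hcomm
  refine Equiv.ext fun y => ?_
  by_cases hy : y ∈ B
  · exact hfix y hy
  · exact altOn_fix (hKeq.le hmem) hy

/-- A `p`-element of a subgroup normalised by a Sylow subgroup is conjugate into the latter. -/
theorem exists_conj_mem_sylow {G : Type*} [Group G] [Finite G] {p : ℕ} [Fact p.Prime] (P : Sylow p G)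
    {Y : Subgroup G} (hY : (P : Subgroup G) ≤ Subgroup.normalizer (Y : Set G)) {d : G} (hd : d ∈ Y)
    (hdp : IsPGroup p ↥(Subgroup.zpowers d)) :
    ∃ g ∈ Subgroup.normalizer (Y : Set G), g * d * g⁻¹ ∈ (P : Subgroup G) ∧ g * d * g⁻¹ ∈ Y := by
  set N := Subgroup.normalizer (Y : Set G) with hN
  obtain ⟨Q, hQ⟩ := (hdp.comap_subtype (K := N)).exists_le_sylow
  obtain ⟨g, hg⟩ := MulAction.exists_smul_eq ↥N Q (P.subtype hY)
  have hdN : d ∈ N := Subgroup.le_normalizer hd
  refine ⟨g, g.2, ?_, (Subgroup.mem_normalizer_iff.mp g.2 d).mp hd⟩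
  have h1 : g * ⟨d, hdN⟩ * g⁻¹ ∈ ((g • Q : Sylow p ↥N) : Subgroup ↥N) := by
    rw [Sylow.coe_subgroup_smul]
    exact ⟨⟨d, hdN⟩, hQ (Subgroup.mem_zpowers d), rfl⟩
  rw [hg] at h1
  exact h1

end Cfsg.Agent.SymOvergroup
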